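import Groth.Agent.EtAcyc.K286.FinStab
import Groth.Agent.EtAcyc.K168.NiceDef
import Groth.Agent.EtAcyc.K157.FinAsph
import Groth.Agent.EtAcyc.K548.GenGood
import Groth.Agent.EtAcyc.K168.CoreLoc

/-!
# Descent of generic local asphericity along finite covers

`genAsph_of_cover`: `C → C_j` finite and jointly surjective on spectra; if the `C_j / D` are generically locally
aspherical, so is `C / D`.
-/

set_option autoImplicit false
universe u

open CategoryTheory CategoryTheory.Limits AlgebraicGeometry IsLocalRing TensorProduct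
open Groth.Agent.Etrest.StrictLoc Groth.Agent.Sga1.UlaSL

namespace K286.DescCover

open K168.AsphDef K168.ClaimDef K286.FinStab K157.Pb K157.FinFam K548.Good

theorem isGood_of_iso {X Y T : Scheme.{u}} {g : X ⟶ T} (hg : IsGood g) (e : Y ⟶ X) [IsIso e] {h : Y ⟶ T}
    (he : e ≫ g = h) : IsGood h :=
  hg.of_isPullback (b' := e) (b := 𝟙 T) (IsPullback.of_horiz_isIso ⟨by rw [he, Category.comp_id]⟩)

/-- Descent of local asphericity along a finite surjective morphism, the goodness being known over an open (or weakly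
étale) part of the base only. -/
theorem asphAt_of_finite {n : ℕ} {X X₁ S W : Scheme.{u}} (p : X₁ ⟶ X) [IsFinite p] [Surjective p] (f : X ⟶ S)
    (i : W ⟶ S) [WeaklyEtale i] (h2 : IsGood (pullback.snd ((pullback.fst p p ≫ p) ≫ f) i))
    (h3 : IsGood (pullback.snd ((pullback.fst (pullback.fst p p ≫ p) p ≫ pullback.fst p p ≫ p) ≫ f) i)) (x : X)
    (hx : f x ∈ Set.range i) (h : ∀ x₁ : X₁, p x₁ = x → AsphAt n (p ≫ f) x₁) : AsphAt n f x := by
  obtain ⟨w, hw⟩ := hx
  obtain ⟨x', hx1, hx2⟩ := Scheme.Pullback.exists_preimage_pullback (f := f) (g := i) x w hw.symm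
  have key : AsphAt n (pullback.snd f i) x' := by
    let p' : pullback (p ≫ f) i ⟶ pullback f i := pb p (𝟙 _) rfl (Category.id_comp i)
    have sqp := isPullback_pb_left (p := f) (t := i) p rfl (Category.id_comp i)
    have hp1 : IsFinite p' := MorphismProperty.of_isPullback sqp.flip inferInstance
    have hp2 : Surjective p' := MorphismProperty.of_isPullback sqp.flip inferInstance
    have hpf : p' ≫ pullback.snd f i = pullback.snd (p ≫ f) i := by
      rw [pb_snd, Category.comp_id]
    -- the double product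
    let l2 : pullback ((pullback.fst p p ≫ p) ≫ f) i ⟶ pullback (p ≫ f) i :=
      pb (pullback.fst p p) (𝟙 _) (Category.assoc _ _ _).symm (Category.id_comp i)
    let r2 : pullback ((pullback.fst p p ≫ p) ≫ f) i ⟶ pullback (p ≫ f) i :=
      pb (pullback.snd p p) (𝟙 _) (by rw [pullback.condition, Category.assoc]) (Category.id_comp i)
    have H2 : IsPullback l2 r2 p' p' :=
      isPullback_pb (p := f) (t := i) (IsPullback.of_hasPullback p p) rfl rfl _ _
    have hl2 : l2 ≫ pullback.snd (p ≫ f) i = pullback.snd ((pullback.fst p p ≫ p) ≫ f) i := by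
      rw [pb_snd, Category.comp_id]
    have h2' : IsGood ((pullback.fst p' p' ≫ p') ≫ pullback.snd f i) := by
      refine isGood_of_iso h2 H2.isoPullback.inv ?_
      calc H2.isoPullback.inv ≫ pullback.snd ((pullback.fst p p ≫ p) ≫ f) i
          = H2.isoPullback.inv ≫ l2 ≫ pullback.snd (p ≫ f) i := congrArg (H2.isoPullback.inv ≫ ·) hl2.symm
        _ = (H2.isoPullback.inv ≫ l2) ≫ pullback.snd (p ≫ f) i := (Category.assoc _ _ _).symm
        _ = pullback.fst p' p' ≫ pullback.snd (p ≫ f) i := by rw [H2.isoPullback_inv_fst]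
        _ = _ := by rw [Category.assoc, hpf]
    -- the triple product
    let q2 : pullback ((pullback.fst p p ≫ p) ≫ f) i ⟶ pullback f i :=
      pb (pullback.fst p p ≫ p) (𝟙 _) rfl (Category.id_comp i)
    have hq2 : l2 ≫ p' = q2 :=
      pb_comp _ _ _ _ rfl (Category.id_comp (𝟙 _))
    let l3 : pullback ((pullback.fst (pullback.fst p p ≫ p) p ≫ pullback.fst p p ≫ p) ≫ f) i ⟶
        pullback ((pullback.fst p p ≫ p) ≫ f) i :=
      pb (pullback.fst (pullback.fst p p ≫ p) p) (𝟙 _) (Category.assoc _ _ _).symm (Category.id_comp i)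
    let r3 : pullback ((pullback.fst (pullback.fst p p ≫ p) p ≫ pullback.fst p p ≫ p) ≫ f) i ⟶
        pullback (p ≫ f) i :=
      pb (pullback.snd (pullback.fst p p ≫ p) p) (𝟙 _) (by rw [← Category.assoc, ← pullback.condition])
        (Category.id_comp i)
    have H3 : IsPullback l3 r3 q2 p' :=
      isPullback_pb (p := f) (t := i) (IsPullback.of_hasPullback (pullback.fst p p ≫ p) p) rfl rfl _ _
    have hl3 : l3 ≫ pullback.snd ((pullback.fst p p ≫ p) ≫ f) i =
        pullback.snd ((pullback.fst (pullback.fst p p ≫ p) p ≫ pullback.fst p p ≫ p) ≫ f) i := by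
      rw [pb_snd, Category.comp_id]
    have H3' : IsPullback (l3 ≫ H2.isoPullback.hom) r3 (pullback.fst p' p' ≫ p') p' := by
      refine H3.of_iso (Iso.refl _) H2.isoPullback (Iso.refl _) (Iso.refl _) (by simp) (by simp) ?_ (by simp)
      rw [Iso.refl_hom, Category.comp_id, ← Category.assoc, H2.isoPullback_hom_fst, hq2]
    have h3' : IsGood ((pullback.fst (pullback.fst p' p' ≫ p') p' ≫ pullback.fst p' p' ≫ p') ≫
        pullback.snd f i) := by
      refine isGood_of_iso h3 H3'.isoPullback.inv ?_
      calc H3'.isoPullback.inv ≫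
            pullback.snd ((pullback.fst (pullback.fst p p ≫ p) p ≫ pullback.fst p p ≫ p) ≫ f) i
          = H3'.isoPullback.inv ≫ l3 ≫ pullback.snd ((pullback.fst p p ≫ p) ≫ f) i :=
            congrArg (H3'.isoPullback.inv ≫ ·) hl3.symm
        _ = H3'.isoPullback.inv ≫ l3 ≫ l2 ≫ pullback.snd (p ≫ f) i :=
            congrArg (fun k => H3'.isoPullback.inv ≫ l3 ≫ k) hl2.symm
        _ = H3'.isoPullback.inv ≫ l3 ≫ (H2.isoPullback.hom ≫ pullback.fst p' p') ≫ pullback.snd (p ≫ f) i := by
            rw [H2.isoPullback_hom_fst]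
        _ = (H3'.isoPullback.inv ≫ l3 ≫ H2.isoPullback.hom) ≫ pullback.fst p' p' ≫ pullback.snd (p ≫ f) i := by
            simp only [Category.assoc]
        _ = pullback.fst (pullback.fst p' p' ≫ p') p' ≫ pullback.fst p' p' ≫ pullback.snd (p ≫ f) i := by
            rw [H3'.isoPullback_inv_fst]
        _ = _ := by simp only [Category.assoc, hpf]
    refine K157.FinAsph.asphAt_of_finite p' (pullback.snd f i) h2' h3' x' fun x₁ hx₁ => ?_
    rw [hpf]
    refine asphAt_of_isPullback (IsPullback.of_hasPullback (p ≫ f) i) (h _ ?_)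
    rw [← hx1, ← hx₁]
    have e2 : p' ≫ pullback.fst f i = pullback.fst (p ≫ f) i ≫ p := pb_fst _ _ _ _
    rw [← Scheme.Hom.comp_apply, ← Scheme.Hom.comp_apply, e2]
  rw [← hx1]
  exact (asphAt_iff_of_isPullback (IsPullback.of_hasPullback f i) x').1 key

/-- The projections of a finite product of rings are weakly étale. -/
theorem weaklyEtale_eval {r : ℕ} (C₁ : Fin r → Type u) [∀ j, CommRing (C₁ j)] (j : Fin r) :
    WeaklyEtale (spm (Pi.evalRingHom C₁ j)) := by
  classical
  refine K168.CoreLoc.weaklyEtale_of_idempotent (Pi.evalRingHom C₁ j) (Function.surjective_eval j)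
    (1 - Pi.single j 1) ?_ ?_
  · refine IsIdempotentElem.one_sub ?_
    change Pi.single j (1 : C₁ j) * Pi.single j (1 : C₁ j) = Pi.single j (1 : C₁ j)
    rw [← Pi.single_mul, one_mul]
  · ext z
    rw [RingHom.mem_ker, Ideal.mem_span_singleton']
    constructor
    · intro hz
      refine ⟨z, ?_⟩
      funext k
      by_cases hk : k = j
      · subst hk
        have hz' : z k = 0 := hz
        simp [hz']
      · simp [Pi.single_eq_of_ne hk]
    · rintro ⟨a, rfl⟩
      simp

end K286.DescCover
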