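import Groth.Agent.EtAcyc.K286.DescBase
import Groth.Agent.EtAcyc.K286.DescCover

/-!
# Generic local asphericity from the generic structure of families

`genAsph_of_data`: if after a generically finite extension of the base `C / D` has a finite cover by generically
locally aspherical algebras, then `C / D` is generically locally aspherical.
-/

set_option autoImplicit false
universe u

open CategoryTheory CategoryTheory.Limits AlgebraicGeometry IsLocalRing TensorProduct
open Groth.Agent.Etrest.StrictLoc Groth.Agent.Sga1.UlaSL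

namespace K286.DescMain

open K168.AsphDef K168.ClaimDef K168.NiceDef K286.FinStab K286.DescCover K286.DescBase K548.Good

/-- A nonempty open subset of the spectrum of a domain contains a nonempty basic open. -/
theorem exists_basic {D : Type u} [CommRing D] [IsDomain D] (U : Set (Spec (CommRingCat.of D))) (hU : IsOpen U)
    (hne : U.Nonempty) : ∃ e : D, e ≠ 0 ∧ ∀ y : Spec (CommRingCat.of D), e ∉ y.asIdeal → y ∈ U := by
  obtain ⟨y, hy⟩ := hne
  obtain ⟨_, ⟨e, rfl⟩, hye, heU⟩ := PrimeSpectrum.isTopologicalBasis_basic_opens.exists_subset_of_mem_open hy hU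
  refine ⟨e, fun h0 => hye ?_, fun z hz => heU hz⟩
  rw [h0]
  exact y.asIdeal.zero_mem

/-- **Descent along finite covers.** -/
theorem genAsph_of_cover {D C : Type u} [CommRing D] [IsDomain D] [IsNoetherianRing D] [CommRing C] [Algebra D C]
    [Algebra.FiniteType D C] {r : ℕ} (C₁ : Fin r → Type u) [∀ j, CommRing (C₁ j)] [∀ j, Algebra D (C₁ j)]
    (φ : ∀ j, C →+* C₁ j) (hφ : ∀ j, (φ j).comp (algebraMap D C) = algebraMap D (C₁ j)) (hf : ∀ j, (φ j).Finite)
    (hs : ∀ p : PrimeSpectrum C, ∃ j, p ∈ Set.range (PrimeSpectrum.comap (φ j))) (h : ∀ j, GenAsph D (C₁ j)) :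
    GenAsph D C := by
  choose e he0 he using h
  let Φ : C →+* (∀ j, C₁ j) := RingHom.pi φ
  have hev : ∀ j, (Pi.evalRingHom C₁ j).comp Φ = φ j := fun j => by ext z; rfl
  have hΦ : Φ.Finite := by
    let _ : ∀ j, Module C (C₁ j) := fun j => (φ j).toModule
    have h1 : ∀ j, Module.Finite C (C₁ j) := fun j => hf j
    exact (inferInstance : Module.Finite C (∀ j, C₁ j))
  have hp1 : IsFinite (spm Φ) := (IsFinite.SpecMap_iff _).2 hΦ
  have hp2 : Surjective (spm Φ) := by
    refine ⟨fun x => ?_⟩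
    obtain ⟨j, y, hy⟩ := hs x
    refine ⟨spm (Pi.evalRingHom C₁ j) y, ?_⟩
    have h1 : (spm (Pi.evalRingHom C₁ j) ≫ spm Φ) y = spm (φ j) y := by rw [← spm_comp, hev]
    exact h1.trans hy
  let f : Spec (CommRingCat.of C) ⟶ Spec (CommRingCat.of D) := spm (algebraMap D C)
  have hft : LocallyOfFiniteType f := (HasRingHomProperty.Spec_iff (P := @LocallyOfFiniteType)).2
    (RingHom.finiteType_algebraMap.2 inferInstance)
  let p := spm Φ
  obtain ⟨U₂, hU₂, hg₂⟩ := K548.GenGood.exists_dense_isGood ((pullback.fst p p ≫ p) ≫ f)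
  obtain ⟨U₃, hU₃, hg₃⟩ := K548.GenGood.exists_dense_isGood
    ((pullback.fst (pullback.fst p p ≫ p) p ≫ pullback.fst p p ≫ p) ≫ f)
  have hne : ((U₂ : Set (Spec (CommRingCat.of D))) ∩ U₃).Nonempty := by
    have hne2 : (U₃ : Set (Spec (CommRingCat.of D))).Nonempty := hU₃.nonempty
    have := hU₂.inter_open_nonempty _ U₃.isOpen hne2
    rwa [Set.inter_comm] at this
  obtain ⟨a, ha0, ha⟩ := exists_basic _ (U₂.isOpen.inter U₃.isOpen) hne
  let i : Spec (CommRingCat.of (Localization.Away a)) ⟶ Spec (CommRingCat.of D) :=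
    spm (algebraMap D (Localization.Away a))
  have hi : IsOpenImmersion i := IsOpenImmersion.of_isLocalization a
  have hri : ∀ y : Spec (CommRingCat.of D), y ∈ Set.range i ↔ a ∉ y.asIdeal := by
    intro y
    have h1 := PrimeSpectrum.localization_away_comap_range (Localization.Away a) a
    exact (Set.ext_iff.1 h1 y)
  have good : ∀ {Y : Scheme.{u}} (g : Y ⟶ Spec (CommRingCat.of D)) (U : (Spec (CommRingCat.of D)).Opens)
      (_ : IsGood (pullback.snd g U.ι)) (_ : ∀ y : Spec (CommRingCat.of D), a ∉ y.asIdeal → y ∈ U),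
      IsGood (pullback.snd g i) := by
    intro Y g U hg hU
    have h1 : Set.range i ⊆ Set.range U.ι := by
      intro y hy
      rw [Scheme.Opens.range_ι]
      exact hU y ((hri y).1 hy)
    have h2 := K548.GenGood.isGood_comp g U.ι (IsOpenImmersion.lift U.ι i h1) hg
    rwa [IsOpenImmersion.lift_fac] at h2
  refine ⟨a * ∏ j, e j, mul_ne_zero ha0 (Finset.prod_ne_zero_iff.2 fun j _ => he0 j), fun x hx n => ?_⟩
  have hx' : a * ∏ j, e j ∉ (f x).asIdeal := hx
  have hxa : a ∉ (f x).asIdeal := fun h0 => hx' (Ideal.mul_mem_right _ _ h0)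
  have hxe : ∀ j, e j ∉ (f x).asIdeal := fun j h0 => hx' (Ideal.mul_mem_left _ _
    (Ideal.mem_of_dvd _ (Finset.dvd_prod_of_mem e (Finset.mem_univ j)) h0))
  refine asphAt_of_finite p f i (good _ U₂ hg₂ fun y hy => (ha y hy).1) (good _ U₃ hg₃ fun y hy => (ha y hy).2) x
    ((hri _).2 hxa) fun x₁ hx₁ => ?_
  obtain ⟨j, y, rfl⟩ := PrimeSpectrum.exists_comap_evalRingHom_eq x₁
  have hwe := weaklyEtale_eval C₁ j
  have h3 : spm (Pi.evalRingHom C₁ j) ≫ p ≫ f = spm (algebraMap D (C₁ j)) := by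
    rw [← spm_comp, ← spm_comp, ← hφ j, ← hev j, RingHom.comp_assoc]
  refine asphAt_of_comp (spm (Pi.evalRingHom C₁ j)) (p ≫ f) (x₁ := y) ?_
  rw [h3]
  refine he j y (fun h4 => hxe j ?_) n
  have h5 : f x = spm (algebraMap D (C₁ j)) y := by
    rw [← h3, ← hx₁]
    rfl
  rw [h5]
  exact h4

/-- **Generic local asphericity from the generic structure of families.** -/
theorem genAsph_of_data {D C : Type u} [CommRing D] [IsDomain D] [Algebra.FiniteType ℤ D] [CommRing C] [Algebra D C]
    [Algebra.FiniteType D C] (h : GenData D C (fun D₁ C₁ _ _ _ => GenAsph D₁ C₁)) : GenAsph D C := by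
  obtain ⟨d, hd, D₁, _, _, _, _, hinj, hu, hint, r, C₁, _, _, φ, hφ, hf, hs, hP⟩ := h
  have hft : Algebra.FiniteType ℤ D₁ := Algebra.FiniteType.trans ‹Algebra.FiniteType ℤ D› ‹Algebra.FiniteType D D₁›
  have hN : IsNoetherianRing D₁ := Algebra.FiniteType.isNoetherianRing ℤ D₁
  exact genAsph_of_base d hd hinj hu hint (genAsph_of_cover C₁ φ hφ hf hs hP)

end K286.DescMain
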