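import Groth.Agent.EtAcyc.K168.AsphDef
import Groth.Agent.Pi1.K157.Lift
import Groth.Agent.Pi1.H408.PrincRestrict
import Groth.Agent.Sga1.UlaSL

/-!
# Stability of local asphericity

* `nc_of_iso`: `NC n` is invariant under isomorphisms;
* `nc_of_asphAt`: `AsphAt` for arbitrary cartesian squares;
* `asphAt_of_isPullback`: stability under base change;
* `asphAt_iff_of_weaklyEtale`: invariance under weakly étale morphisms `a : X₁ ⟶ X`;
* `asphAt_iff_of_isPullback`: invariance under weakly étale base change.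
-/

set_option autoImplicit false
universe u

open CategoryTheory CategoryTheory.Limits AlgebraicGeometry IsLocalRing
open Groth.Agent.Etrest.StrictLoc Groth.Agent.Sga1.UlaSL

namespace K286.FinStab

open K168.AsphDef K157.Lift

theorem comp_pt {X Y Z : Scheme.{u}} (f : X ⟶ Y) (g : Y ⟶ Z) (x : X) {y : Y} (h : f x = y) :
    (f ≫ g) x = g y := by
  rw [Scheme.Hom.comp_apply, h]

/-- `NC n` is invariant under isomorphisms. -/
theorem nc_of_iso {n : ℕ} {Y Y' : Scheme.{u}} (e : Y ≅ Y') (h : NC n Y) : NC n Y' := by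
  intro G _ _ hG P ρ hP
  have h6 := Groth.Agent.Pi1.H408.PrincRestrict.isPrincipal_restrict e.hom P ρ hP
  obtain ⟨s, hs⟩ := h G hG _ _ h6
  obtain ⟨s', hs'⟩ := ((hasLift_restrict_iff P e.hom (𝟙 _)).1 ⟨s, hs⟩).comp' e.inv
    (f' := 𝟙 Y') (by simp)
  exact ⟨⟨s', hs'⟩⟩

/-- Local asphericity in terms of arbitrary cartesian squares. -/
theorem nc_of_asphAt {n : ℕ} {X S : Scheme.{u}} {f : X ⟶ S} {x : X} (h : AsphAt n f x)
    {A B : Type u} [CommRing A] [IsLocalRing A] [CommRing B] [IsLocalRing B]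
    (hA : HenselianLocalRing A) (hA' : IsSepClosed (ResidueField A)) (hn : IsUnit (n : A))
    {P : Scheme.{u}} {p : P ⟶ X} {q : P ⟶ Spec (CommRingCat.of A)} {t : Spec (CommRingCat.of A) ⟶ S}
    (sq : IsPullback p q f t) {σ : Spec (CommRingCat.of B) ⟶ P} (hσ : IsStrictLoc σ)
    (hx : (σ ≫ p) (closedPoint B) = x) (β : A →+* B) (hβ : IsLocalHom β) (hc : σ ≫ q = spm β)
    {Ω : Type u} [Field Ω] [IsSepClosed Ω] (ξ : A →+* Ω) (hξ : AlgOver ξ)
    {N : Scheme.{u}} {a : N ⟶ Spec (CommRingCat.of B)} {b : N ⟶ Spec (CommRingCat.of Ω)}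
    (sqN : IsPullback a b (spm β) (spm ξ)) : NC n N := by
  have h1 : IsStrictLoc (σ ≫ sq.isoPullback.hom) := hσ.comp _
  exact nc_of_iso sqN.isoPullback.symm (h A B hA hA' hn t (σ ≫ sq.isoPullback.hom) h1
    (by rw [Category.assoc, sq.isoPullback_hom_fst]; exact hx) β hβ
    (by rw [Category.assoc, sq.isoPullback_hom_snd]; exact hc) Ω ξ hξ)

/-- **Base change.** -/
theorem asphAt_of_isPullback {n : ℕ} {X S X₁ S₁ : Scheme.{u}} {f : X ⟶ S} {f₁ : X₁ ⟶ S₁} {a : X₁ ⟶ X}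
    {b : S₁ ⟶ S} (sq : IsPullback a f₁ f b) {x₁ : X₁} (h : AsphAt n f (a x₁)) : AsphAt n f₁ x₁ := by
  intro A B _ _ _ _ hA hA' hn t σ hσ hx β hβ hc Ω _ _ ξ hξ
  exact nc_of_asphAt h hA hA' hn ((IsPullback.of_hasPullback f₁ t).paste_horiz sq) hσ
    (by rw [← Category.assoc]; exact comp_pt _ _ _ hx) β hβ hc ξ hξ (IsPullback.of_hasPullback _ _)

/-- A strict localization lifts along a weakly étale morphism. -/
theorem exists_lift {P P₁ : Scheme.{u}} (m : P₁ ⟶ P) [WeaklyEtale m] {B : Type u} [CommRing B] [IsLocalRing B]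
    {σ : Spec (CommRingCat.of B) ⟶ P} (hσ : IsStrictLoc σ) (p₁ : P₁) (h : m p₁ = σ (closedPoint B)) :
    ∃ σ₁ : Spec (CommRingCat.of B) ⟶ P₁, IsStrictLoc σ₁ ∧ σ₁ ≫ m = σ ∧ σ₁ (closedPoint B) = p₁ := by
  obtain ⟨C, _, _, τ, hτ, hτp⟩ := exists_isStrictLoc P₁ p₁
  obtain ⟨g, hg, hgb, hgc⟩ := hσ.exists_equiv (hτ.comp m) (h.symm.trans (comp_pt τ m _ hτp).symm)
  have hiso : IsIso (spm g) := isIso_spm g hgb
  have h1 : (inv (spm g) ≫ τ) ≫ m = σ := by
    rw [Category.assoc, ← hgc, IsIso.inv_hom_id_assoc]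
  have h2 : spm g (closedPoint C) = closedPoint B := closedPoint_map g
  refine ⟨inv (spm g) ≫ τ, IsStrictLoc.of_comp m (by rw [h1]; exact hσ), h1, ?_⟩
  have h3 : (spm g ≫ inv (spm g) ≫ τ) (closedPoint C) = (inv (spm g) ≫ τ) (closedPoint B) := comp_pt _ _ _ h2
  rw [IsIso.hom_inv_id_assoc] at h3
  exact h3.symm.trans hτp

/-- Weakly étale localization on the source. -/
theorem asphAt_comp {n : ℕ} {X X₁ S : Scheme.{u}} (a : X₁ ⟶ X) [WeaklyEtale a] (f : X ⟶ S) {x₁ : X₁}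
    (h : AsphAt n f (a x₁)) : AsphAt n (a ≫ f) x₁ := by
  intro A B _ _ _ _ hA hA' hn t σ hσ hx β hβ hc Ω _ _ ξ hξ
  let m : pullback (a ≫ f) t ⟶ pullback f t := pullback.lift (pullback.fst (a ≫ f) t ≫ a) (pullback.snd (a ≫ f) t)
    (by rw [Category.assoc, pullback.condition])
  have hm1 : m ≫ pullback.fst f t = pullback.fst (a ≫ f) t ≫ a := pullback.lift_fst _ _ _
  have hm2 : m ≫ pullback.snd f t = pullback.snd (a ≫ f) t := pullback.lift_snd _ _ _
  have sq : IsPullback (pullback.fst (a ≫ f) t) m a (pullback.fst f t) :=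
    IsPullback.of_bot (by rw [hm2]; exact IsPullback.of_hasPullback (a ≫ f) t)
      hm1.symm (IsPullback.of_hasPullback f t)
  have hm : WeaklyEtale m := MorphismProperty.of_isPullback sq inferInstance
  refine nc_of_asphAt h hA hA' hn (IsPullback.of_hasPullback f t) (hσ.comp m) ?_ β hβ ?_ ξ hξ
    (IsPullback.of_hasPullback _ _)
  · rw [Category.assoc, ← sq.w, ← Category.assoc]
    exact comp_pt _ _ _ hx
  · rw [Category.assoc, hm2, hc]

/-- Weakly étale localization on the source, converse. -/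
theorem asphAt_of_comp {n : ℕ} {X X₁ S : Scheme.{u}} (a : X₁ ⟶ X) [WeaklyEtale a] (f : X ⟶ S) {x₁ : X₁}
    (h : AsphAt n (a ≫ f) x₁) : AsphAt n f (a x₁) := by
  intro A B _ _ _ _ hA hA' hn t σ hσ hx β hβ hc Ω _ _ ξ hξ
  have sq : IsPullback (pullback.fst a (pullback.fst f t)) (pullback.snd a (pullback.fst f t)) a
    (pullback.fst f t) := IsPullback.of_hasPullback _ _
  obtain ⟨p₁, h1, h2⟩ := Scheme.Pullback.exists_preimage_pullback (f := a) (g := pullback.fst f t)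
    x₁ (σ (closedPoint B)) (hx.symm.trans (comp_pt _ _ _ rfl))
  obtain ⟨σ₁, hσ₁, h3, h4⟩ := exists_lift (pullback.snd a (pullback.fst f t)) hσ p₁ h2
  refine nc_of_asphAt h hA hA' hn (sq.paste_vert (IsPullback.of_hasPullback f t)) hσ₁ ?_ β hβ ?_ ξ hξ
    (IsPullback.of_hasPullback _ _)
  · exact (comp_pt _ _ _ h4).trans h1
  · rw [← Category.assoc, h3, hc]

theorem asphAt_iff_of_weaklyEtale {n : ℕ} {X X₁ S : Scheme.{u}} (a : X₁ ⟶ X) [WeaklyEtale a] (f : X ⟶ S)
    (x₁ : X₁) : AsphAt n (a ≫ f) x₁ ↔ AsphAt n f (a x₁) := ⟨asphAt_of_comp a f, asphAt_comp a f⟩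

/-- Weakly étale base change. -/
theorem asphAt_iff_of_isPullback {n : ℕ} {X S X₁ S₁ : Scheme.{u}} {f : X ⟶ S} {f₁ : X₁ ⟶ S₁} {a : X₁ ⟶ X}
    {b : S₁ ⟶ S} [WeaklyEtale b] (sq : IsPullback a f₁ f b) (x₁ : X₁) :
    AsphAt n f₁ x₁ ↔ AsphAt n f (a x₁) := by
  refine ⟨?_, asphAt_of_isPullback sq⟩
  intro h A B _ _ _ _ hA hA' hn t σ hσ hx β hβ hc Ω _ _ ξ hξ
  have ha : WeaklyEtale a := MorphismProperty.of_isPullback sq.flip inferInstance
  -- lift `σ` to `P ×_X X₁`
  obtain ⟨p₁, h1, h2⟩ := Scheme.Pullback.exists_preimage_pullback (f := a) (g := pullback.fst f t)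
    x₁ (σ (closedPoint B)) (hx.symm.trans (comp_pt _ _ _ rfl))
  obtain ⟨σ₁, hσ₁, h3, h4⟩ := exists_lift (pullback.snd a (pullback.fst f t)) hσ p₁ h2
  -- the strict localization of `S₁ ×_S Spec A` at the image of the closed point
  let γ : Spec (CommRingCat.of B) ⟶ pullback b t :=
    pullback.lift ((σ₁ ≫ pullback.fst a (pullback.fst f t)) ≫ f₁) (spm β) (by
      rw [Category.assoc, ← sq.w, Category.assoc, pullback.condition_assoc, ← Category.assoc, h3,
        pullback.condition, ← Category.assoc, hc])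
  have hγ1 : γ ≫ pullback.fst b t = (σ₁ ≫ pullback.fst a (pullback.fst f t)) ≫ f₁ := pullback.lift_fst _ _ _
  have hγ2 : γ ≫ pullback.snd b t = spm β := pullback.lift_snd _ _ _
  have hid : IsStrictLoc (𝟙 (Spec (CommRingCat.of A))) := isStrictLoc_id A
  obtain ⟨θ, hθ, hθ1, hθ2⟩ := exists_lift (pullback.snd b t) hid (γ (closedPoint B)) (by
    refine (comp_pt γ (pullback.snd b t) (closedPoint B) rfl).symm.trans ?_
    rw [hγ2]
    exact closedPoint_map β)
  have hB := hσ.henselian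
  have hB' := hσ.sepClosed
  obtain ⟨δ, hδ, hδ'⟩ := Groth.Agent.Etrest.VCBaseChange.exists_map hθ γ hθ2.symm
  have hδβ : δ = β := by
    rw [← spm_inj, ← hγ2, ← hδ', Category.assoc, hθ1, Category.comp_id]
  subst hδβ
  -- the new square
  have ht : (θ ≫ pullback.fst b t) ≫ b = t := by
    rw [Category.assoc, pullback.condition, ← Category.assoc, hθ1, Category.id_comp]
  let r : pullback f t ⟶ X₁ := sq.lift (pullback.fst f t) (pullback.snd f t ≫ θ ≫ pullback.fst b t) (by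
    rw [Category.assoc, ht, pullback.condition])
  have hr1 : r ≫ a = pullback.fst f t := sq.lift_fst _ _ _
  have hr2 : r ≫ f₁ = pullback.snd f t ≫ θ ≫ pullback.fst b t := sq.lift_snd _ _ _
  have sq' : IsPullback r (pullback.snd f t) f₁ (θ ≫ pullback.fst b t) :=
    IsPullback.of_right (by rw [hr1, ht]; exact IsPullback.of_hasPullback f t) hr2 sq
  have hr3 : σ ≫ r = σ₁ ≫ pullback.fst a (pullback.fst f t) := by
    apply sq.hom_ext
    · rw [Category.assoc, hr1, Category.assoc, pullback.condition, ← Category.assoc, h3]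
    · rw [Category.assoc, hr2, ← hγ1, ← hδ', ← Category.assoc σ, hc, Category.assoc]
  refine nc_of_asphAt h hA hA' hn sq' hσ ?_ δ hβ hc ξ hξ (IsPullback.of_hasPullback _ _)
  rw [hr3]
  exact (comp_pt _ _ _ h4).trans h1

end K286.FinStab
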