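import Groth.Agent.EtAcyc.K168.RingForm
import Groth.Agent.EtAcyc.K168.NiceDef
import Groth.Agent.EtAcyc.K548.Radicial
import Groth.Agent.EtAcyc.K557.LimMain
import Groth.Agent.EtAcyc.K286.FinStab

/-!
# Descent of generic local asphericity along generically finite extensions of the base

`genAsph_of_base`: `D ⊆ D₁` domains, `d ≠ 0` in `D` invertible in `D₁` with `D₁` integral over `D[1/d]`.  If
`D₁ ⊗ C / D₁` is generically locally aspherical, so is `C / D`.
-/

set_option autoImplicit false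
universe u

open CategoryTheory CategoryTheory.Limits AlgebraicGeometry IsLocalRing TensorProduct
open Groth.Agent.Etrest.StrictLoc Groth.Agent.Sga1.UlaSL

namespace K286.DescBase

open K168.AsphDef K168.ClaimDef K168.RingForm

/-- Every nonzero element of `D₁` divides a nonzero element of `D`. -/
theorem exists_dvd {D D₁ : Type u} [CommRing D] [IsDomain D] [CommRing D₁] [IsDomain D₁] [Algebra D D₁]
    (hinj : Function.Injective (algebraMap D D₁)) (d : D) (hd : d ≠ 0)
    (hint : ∀ z : D₁, ∃ k : ℕ, IsIntegral D (algebraMap D D₁ d ^ k * z)) (e : D₁) (he : e ≠ 0) :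
    ∃ a : D, a ≠ 0 ∧ e ∣ algebraMap D D₁ a := by
  obtain ⟨k, hk⟩ := hint e
  have hd' : algebraMap D D₁ d ≠ 0 := fun h0 => hd (hinj (by rw [h0, map_zero]))
  have h1 := Ideal.comap_ne_bot_of_integral_mem (mul_ne_zero (pow_ne_zero k hd') he)
    (Ideal.mem_span_singleton_self _) hk
  obtain ⟨a, ha, ha0⟩ := Submodule.exists_mem_ne_zero_of_ne_bot h1
  refine ⟨a, ha0, ?_⟩
  rw [Ideal.mem_comap, Ideal.mem_span_singleton] at ha
  exact (Dvd.intro_left _ rfl).trans ha

/-- Extension of homomorphisms to test rings. -/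
theorem exists_ext {D D₁ O : Type u} [CommRing D] [CommRing D₁] [IsDomain D₁] [Algebra D D₁] [CommRing O] (hO : TP O)
    (hinj : Function.Injective (algebraMap D D₁)) (d : D) (hd : IsUnit (algebraMap D D₁ d))
    (hint : ∀ z : D₁, ∃ k : ℕ, IsIntegral D (algebraMap D D₁ d ^ k * z)) (τ : D →+* O) (hτ : IsUnit (τ d)) :
    ∃ τ₁ : D₁ →+* O, τ₁.comp (algebraMap D D₁) = τ := by
  have hdom := hO.isDomain
  have hic := K168.TPLoc.isIntegrallyClosed hO
  let K := FractionRing O
  have hK : IsAlgClosed K := (K168.TPLoc.isAIC hO).isAlgClosed (nonZeroDivisors O)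
  let D' := Localization.Away d
  let g : D' →+* D₁ := IsLocalization.Away.lift d (S := D') hd
  have hg : g.comp (algebraMap D D') = algebraMap D D₁ := IsLocalization.Away.lift_comp d hd
  have hgi : g.IsIntegral := by
    intro z
    obtain ⟨k, hk⟩ := hint z
    let _ : Algebra D' D₁ := g.toAlgebra
    have hst : IsScalarTower D D' D₁ := IsScalarTower.of_algebraMap_eq' hg.symm
    have h1 : IsIntegral D' (algebraMap D D₁ d ^ k * z) := hk.tower_top
    have hu : IsUnit (algebraMap D D' d) := IsLocalization.Away.algebraMap_isUnit d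
    obtain ⟨w, hw⟩ := hu.pow k |>.exists_left_inv
    have h2 : IsIntegral D' (algebraMap D' D₁ w * (algebraMap D D₁ d ^ k * z)) := (isIntegral_algebraMap).mul h1
    have h3 : algebraMap D' D₁ w * (algebraMap D D₁ d ^ k * z) = z := by
      rw [← mul_assoc, IsScalarTower.algebraMap_apply D D' D₁, ← map_pow, ← map_mul, hw, map_one, one_mul]
    rw [h3] at h2
    exact h2
  have hginj : Function.Injective g := by
    rw [injective_iff_map_eq_zero]
    intro z hz
    obtain ⟨⟨x, s⟩, hx⟩ := IsLocalization.surj (Submonoid.powers d) z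
    have h1 : g (algebraMap D D' x) = 0 := by rw [← hx, map_mul, hz, zero_mul]
    have h2 : algebraMap D D₁ x = 0 := by rw [← hg]; exact h1
    have h3 : x = 0 := hinj (by rw [h2, map_zero])
    have hus : IsUnit (algebraMap D D' s) := IsLocalization.map_units D' s
    simp only [h3, map_zero] at hx
    exact (hus.mul_left_eq_zero).1 hx
  have hπ : IsIntegralHom (spm g) := IsIntegralHom.SpecMap_iff.2 hgi
  have hπs : Surjective (spm g) := ⟨hgi.comap_surjective hginj⟩
  let s₀ : D' →+* K := IsLocalization.Away.lift d (S := D') (g := (algebraMap O K).comp τ) (hτ.map (algebraMap O K))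
  have hs₀ : s₀.comp (algebraMap D D') = (algebraMap O K).comp τ := IsLocalization.Away.lift_comp d _
  obtain ⟨s', hs'⟩ := K548.Radicial.exists_lift_of_isIntegralHom (spm g) K (spm s₀)
  obtain ⟨τK, rfl⟩ : ∃ τK : D₁ →+* K, spm τK = s' := ⟨(Spec.preimage s').hom, Spec.map_preimage _⟩
  have h1 : τK.comp g = s₀ := by rw [← spm_inj, spm_comp, hs']
  have h2 : τK.comp (algebraMap D D₁) = (algebraMap O K).comp τ := by
    rw [← hs₀, ← h1, RingHom.comp_assoc, hg]
  have hrange : ∀ z : D₁, ∃ y : O, algebraMap O K y = τK z := by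
    intro z
    obtain ⟨k, hk⟩ := hint z
    have h3 : IsIntegral O (τK (algebraMap D D₁ d ^ k * z)) :=
      IsIntegral.map_of_comp_eq τ τK h2.symm hk
    obtain ⟨y, hy⟩ := IsIntegrallyClosed.isIntegral_iff.1 h3
    obtain ⟨w, hw⟩ := hτ.pow k |>.exists_left_inv
    refine ⟨w * y, ?_⟩
    have h4 : τK (algebraMap D D₁ d) = algebraMap O K (τ d) := congrArg (fun q : D →+* K => q d) h2
    rw [map_mul, hy, map_mul, map_pow, h4, ← map_pow, ← mul_assoc, ← map_mul, hw, map_one, one_mul]
  have hinjK : Function.Injective (algebraMap O K) := IsFractionRing.injective O K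
  choose y hy using hrange
  refine ⟨{ toFun := y, map_one' := hinjK ?_, map_mul' := fun a b => hinjK ?_, map_zero' := hinjK ?_,
            map_add' := fun a b => hinjK ?_ }, ?_⟩
  · rw [hy, map_one, map_one]
  · rw [map_mul, hy, hy, hy, map_mul]
  · rw [hy, map_zero, map_zero]
  · rw [map_add, hy, hy, hy, map_add]
  · ext a
    apply hinjK
    change algebraMap O K (y (algebraMap D D₁ a)) = algebraMap O K (τ a)
    rw [hy]
    exact congrArg (fun q : D →+* K => q a) h2

/-- **Descent along the base.** -/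
theorem genAsph_of_base {D C D₁ : Type u} [CommRing D] [IsDomain D] [Algebra.FiniteType ℤ D] [CommRing C] [Algebra D C]
    [CommRing D₁] [IsDomain D₁] [Algebra D D₁] (d : D) (hd : d ≠ 0) (hinj : Function.Injective (algebraMap D D₁))
    (hu : IsUnit (algebraMap D D₁ d)) (hint : ∀ z : D₁, ∃ k : ℕ, IsIntegral D (algebraMap D D₁ d ^ k * z))
    (h : GenAsph D₁ (D₁ ⊗[D] C)) : GenAsph D C := by
  obtain ⟨e, he, h⟩ := h
  obtain ⟨a, ha, hea⟩ := exists_dvd hinj d hd hint e he
  refine ⟨d * a, mul_ne_zero hd ha, fun x hx n => ?_⟩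
  refine K557.LimMain.asphAt_of_lapAt_affine (lApAt_of x ?_)
  intro O B L _ _ _ _ _ _ _ hO hn ε hε hl hxε _
  subst hxε
  have hx' : fromC ε (algebraMap D C (d * a)) ∉ maximalIdeal B := hx
  have hco : ∀ z : D, fromC ε (algebraMap D C z) = fromO ε (algebraMap D O z) := by
    intro z
    have h1 : (Algebra.TensorProduct.includeRight : C →ₐ[D] O ⊗[D] C).toRingHom (algebraMap D C z) =
        algebraMap O (O ⊗[D] C) (algebraMap D O z) := by
      rw [← IsScalarTower.algebraMap_apply]
      exact (Algebra.TensorProduct.includeRight : C →ₐ[D] O ⊗[D] C).commutes z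
    exact congrArg ε h1
  have hda : IsUnit (algebraMap D O (d * a)) := by
    rw [hco, mem_maximalIdeal, mem_nonunits_iff, not_not] at hx'
    exact isUnit_of_map_unit (fromO ε) _ hx'
  have hdu : IsUnit (algebraMap D O d) := by
    rw [map_mul] at hda
    exact isUnit_of_mul_isUnit_left hda
  obtain ⟨τ₁, hτ₁⟩ := exists_ext hO hinj d hu hint (algebraMap D O) hdu
  let _ : Algebra D₁ O := τ₁.toAlgebra
  have hst : IsScalarTower D D₁ O := IsScalarTower.of_algebraMap_eq' hτ₁.symm
  let c : O ⊗[D₁] (D₁ ⊗[D] C) ≃ₐ[O] O ⊗[D] C := Algebra.TensorProduct.cancelBaseChange D D₁ O O C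
  let ε₁ : O ⊗[D₁] (D₁ ⊗[D] C) →+* B := ε.comp (c : O ⊗[D₁] (D₁ ⊗[D] C) →+* O ⊗[D] C)
  have hiso : IsIso (spm (c : O ⊗[D₁] (D₁ ⊗[D] C) →+* O ⊗[D] C)) := isIso_spm _ c.bijective
  have hε₁ : IsStrictLoc (spm ε₁) := by
    have := hε.comp (spm (c : O ⊗[D₁] (D₁ ⊗[D] C) →+* O ⊗[D] C))
    rwa [← spm_comp] at this
  have hO₁ : fromO ε₁ = fromO ε := by
    ext z
    exact congrArg ε (c.commutes z)
  have hC₁ : ∀ z : D₁, fromC ε₁ (algebraMap D₁ (D₁ ⊗[D] C) z) = fromO ε (algebraMap D₁ O z) := by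
    intro z
    rw [← hO₁]
    have h1 : (Algebra.TensorProduct.includeRight : D₁ ⊗[D] C →ₐ[D₁] O ⊗[D₁] (D₁ ⊗[D] C)).toRingHom
        (algebraMap D₁ (D₁ ⊗[D] C) z) = algebraMap O (O ⊗[D₁] (D₁ ⊗[D] C)) (algebraMap D₁ O z) := by
      rw [← IsScalarTower.algebraMap_apply]
      exact (Algebra.TensorProduct.includeRight : D₁ ⊗[D] C →ₐ[D₁] O ⊗[D₁] (D₁ ⊗[D] C)).commutes z
    exact congrArg ε₁ h1
  have key : AsphAt n (spm (algebraMap D₁ (D₁ ⊗[D] C))) (spm (fromC ε₁) (closedPoint B)) := by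
    refine h _ (fun hmem => ?_) n
    have h2 : fromC ε₁ (algebraMap D₁ (D₁ ⊗[D] C) e) ∈ maximalIdeal B := hmem
    rw [hC₁] at h2
    have h3 : fromO ε (algebraMap D O a) ∈ maximalIdeal B := by
      rw [IsScalarTower.algebraMap_apply D D₁ O]
      exact Ideal.mem_of_dvd _ ((map_dvd (fromO ε) (map_dvd (algebraMap D₁ O) hea))) h2
    apply hx'
    rw [hco, map_mul, map_mul]
    exact Ideal.mul_mem_left _ _ h3
  have hL : IsLocalization ((nonZeroDivisors O).map (fromO ε₁)) L := by
    rw [hO₁]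
    infer_instance
  exact K168.RingForm.nc_of_asphAt hO hn ε₁ hε₁ (by rw [hO₁]; exact hl) key L

end K286.DescBase
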