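import Groth.Agent.EtAcyc.K286.FinNil
import Groth.Agent.EtAcyc.K168.ClaimDef
import Mathlib.RingTheory.Extension.Presentation.Core
import Mathlib.RingTheory.Nilpotent.Lemmas

/-!
# Generic local asphericity for affine morphisms: permanence

* `genAsph_tensor`: base change along an injective map of domains;
* `genAsph_of_claim`: the claim implies generic local asphericity for all finitely presented algebras over domains.
-/

set_option autoImplicit false
universe u

open CategoryTheory CategoryTheory.Limits AlgebraicGeometry IsLocalRing TensorProduct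
open Groth.Agent.Etrest.StrictLoc Groth.Agent.Sga1.UlaSL

namespace K286.FinAff

open K168.AsphDef K168.ClaimDef K286.FinStab K286.FinNil

theorem mem_spm {R S : Type u} [CommRing R] [CommRing S] (g : R →+* S) (x : Spec (CommRingCat.of S)) (r : R) :
    r ∈ (spm g x).asIdeal ↔ g r ∈ x.asIdeal := Iff.rfl

theorem isPullback_spm_tensor (R A B : Type u) [CommRing R] [CommRing A] [CommRing B] [Algebra R A] [Algebra R B] :
    IsPullback (spm (Algebra.TensorProduct.includeRight : B →ₐ[R] A ⊗[R] B).toRingHom)
      (spm (algebraMap A (A ⊗[R] B))) (spm (algebraMap R B)) (spm (algebraMap R A)) :=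
  (isPullback_SpecMap_of_isPushout _ _ _ _ (CommRingCat.isPushout_tensorProduct R A B)).flip

theorem genAsph_tensor {D₀ C₀ D : Type u} [CommRing D₀] [CommRing C₀] [CommRing D] [Algebra D₀ C₀] [Algebra D₀ D]
    (hinj : Function.Injective (algebraMap D₀ D)) (h : GenAsph D₀ C₀) : GenAsph D (D ⊗[D₀] C₀) := by
  obtain ⟨d, hd, h⟩ := h
  refine ⟨algebraMap D₀ D d, fun h0 => hd (hinj (by rw [h0, map_zero])), fun x hx n => ?_⟩
  refine asphAt_of_isPullback (isPullback_spm_tensor D₀ D C₀) (h _ ?_ n)
  rw [mem_spm]
  have h1 : (Algebra.TensorProduct.includeRight : C₀ →ₐ[D₀] D ⊗[D₀] C₀).toRingHom (algebraMap D₀ C₀ d) =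
      algebraMap D (D ⊗[D₀] C₀) (algebraMap D₀ D d) := by
    rw [← IsScalarTower.algebraMap_apply]
    exact (Algebra.TensorProduct.includeRight : C₀ →ₐ[D₀] D ⊗[D₀] C₀).commutes d
  rw [h1]
  exact hx

theorem genAsph_of_algEquiv {D C C' : Type u} [CommRing D] [CommRing C] [CommRing C'] [Algebra D C] [Algebra D C']
    (e : C ≃ₐ[D] C') (h : GenAsph D C) : GenAsph D C' := by
  obtain ⟨d, hd, h⟩ := h
  refine ⟨d, hd, fun x hx n => ?_⟩
  have h1 : IsIso (spm (e : C →+* C')) := isIso_spm _ e.bijective
  have h2 : spm (algebraMap D C') = spm (e : C →+* C') ≫ spm (algebraMap D C) := by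
    rw [← spm_comp]
    exact congrArg spm (e.toAlgHom.comp_algebraMap).symm
  rw [h2]
  refine asphAt_comp _ _ (h _ ?_ n)
  rw [mem_spm]
  have h3 : (e : C →+* C') (algebraMap D C d) = algebraMap D C' d := e.commutes d
  rw [h3]
  exact hx

/-- **From the claim to finitely presented algebras over domains.** -/
theorem genAsph_of_claim (h : Claim.{u}) (D C : Type u) [CommRing D] [IsDomain D] [CommRing C] [Algebra D C]
    [Algebra.FinitePresentation D C] : GenAsph D C := by
  let P := Algebra.Presentation.ofFinitePresentation D C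
  have hinj : Function.Injective (algebraMap P.Core D) := FaithfulSMul.algebraMap_injective _ _
  have hdom : IsDomain P.Core := hinj.isDomain
  exact genAsph_of_algEquiv (P.tensorModelOfHasCoeffsEquiv P.Core)
    (genAsph_tensor hinj (h P.Core (P.ModelOfHasCoeffs P.Core)))

end K286.FinAff
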