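import Groth.Agent.EtAcyc.K286.FinOpen
import Groth.Agent.Etbc.H198.WeBC

/-!
# From generic local asphericity to the triviality of principal covers of the Milnor fibres

`of_claim`: the claim over domains of finite type over `ℤ` implies the triviality of the principal covers of the
Milnor fibres, over a dense open of the base, of any morphism of finite type with Noetherian target.
-/

set_option autoImplicit false
universe u

open CategoryTheory CategoryTheory.Limits AlgebraicGeometry Opposite IsLocalRing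
open Groth.Agent.Etrest.StrictLoc Groth.Agent.Sga1.UlaSL
open EtAcyc

namespace K286.Fin

open K168.AsphDef K168.ClaimDef K286.FinStab

/-- Clearing denominators. -/
theorem exists_clear {R K : Type u} [CommRing R] [Field K] (g : R →+* K)
    (hg : ∀ c : K, ∃ a b : R, g b ≠ 0 ∧ c * g b = g a) (p : Polynomial K) :
    ∃ (b : R) (q : Polynomial R), g b ≠ 0 ∧ q.map g = Polynomial.C (g b) * p := by
  induction p using Polynomial.induction_on' with
  | add p₁ p₂ h₁ h₂ =>
    obtain ⟨b₁, q₁, hb₁, hq₁⟩ := h₁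
    obtain ⟨b₂, q₂, hb₂, hq₂⟩ := h₂
    refine ⟨b₁ * b₂, Polynomial.C b₂ * q₁ + Polynomial.C b₁ * q₂, by rw [map_mul]; exact mul_ne_zero hb₁ hb₂, ?_⟩
    simp only [Polynomial.map_add, Polynomial.map_mul, Polynomial.map_C, hq₁, hq₂, map_mul]
    ring
  | monomial n c =>
    obtain ⟨a, b, hb, hab⟩ := hg c
    refine ⟨b, Polynomial.monomial n a, hb, ?_⟩
    rw [Polynomial.map_monomial, Polynomial.C_mul_monomial, ← hab, mul_comm]

theorem algOver_comp {R K Ω : Type u} [CommRing R] [Field K] [Field Ω] (g : R →+* K)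
    (hg : ∀ c : K, ∃ a b : R, g b ≠ 0 ∧ c * g b = g a) [Algebra K Ω] [Algebra.IsAlgebraic K Ω] :
    AlgOver ((algebraMap K Ω).comp g) := by
  intro z
  obtain ⟨p, hp, hz⟩ := Algebra.IsAlgebraic.isAlgebraic (R := K) z
  obtain ⟨b, q, hb, hq⟩ := exists_clear g hg p
  refine ⟨q, ?_, ?_⟩
  · rw [← Polynomial.map_map, hq]
    exact (Polynomial.map_ne_zero_iff (algebraMap K Ω).injective).2
      (mul_ne_zero (Polynomial.C_ne_zero.2 hb) hp)
  · rw [← Polynomial.eval₂_map, hq, Polynomial.eval₂_mul]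
    have h1 : Polynomial.eval₂ (algebraMap K Ω) z p = 0 := hz
    rw [h1, mul_zero]

/-- An algebraic geometric point of an affine scheme. -/
theorem exists_geomPt (R : Type u) [CommRing R] (y : Spec (CommRingCat.of R)) (Ω : Type u) [Field Ω]
    [Algebra ((Spec (CommRingCat.of R)).residueField y) Ω]
    [Algebra.IsAlgebraic ((Spec (CommRingCat.of R)).residueField y) Ω] :
    ∃ x : R →+* Ω, spm x = EtAcyc.geomPt (Spec (CommRingCat.of R)) y Ω ∧ AlgOver x := by
  have hy : (PrimeSpectrum.asIdeal y).IsPrime := PrimeSpectrum.isPrime y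
  let I : Ideal R := PrimeSpectrum.asIdeal y
  have hI : I.IsPrime := hy
  let e : (Spec (CommRingCat.of R)).residueField y ≅ CommRingCat.of I.ResidueField :=
    Scheme.Spec.residueFieldIso (CommRingCat.of R) y
  let g : R →+* (Spec (CommRingCat.of R)).residueField y :=
    (e.inv.hom).comp (algebraMap R I.ResidueField)
  have hg : ∀ c : (Spec (CommRingCat.of R)).residueField y, ∃ a b : R, g b ≠ 0 ∧ c * g b = g a := by
    intro c
    obtain ⟨a, b, hb, hab⟩ := IsFractionRing.div_surjective (A := R ⧸ I) (e.hom.hom c)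
    obtain ⟨a, rfl⟩ := Ideal.Quotient.mk_surjective a
    obtain ⟨b, rfl⟩ := Ideal.Quotient.mk_surjective b
    have hb0 : algebraMap R I.ResidueField b ≠ 0 := by
      intro h0
      exact nonZeroDivisors.ne_zero hb ((IsFractionRing.injective (R ⧸ I) I.ResidueField)
        (by rw [map_zero]; exact h0))
    have h1 : e.hom.hom c * algebraMap R I.ResidueField b = algebraMap R I.ResidueField a := by
      rw [← hab]
      exact div_mul_cancel₀ _ hb0
    refine ⟨a, b, ?_, ?_⟩
    · exact (map_ne_zero e.inv.hom).2 hb0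
    · have h2 : e.inv.hom (e.hom.hom c) = c := by
        have := congrArg (fun k => k.hom c) e.hom_inv_id
        exact this
      have h3 := congrArg e.inv.hom h1
      rw [map_mul, h2] at h3
      exact h3
  refine ⟨(algebraMap ((Spec (CommRingCat.of R)).residueField y) Ω).comp g, ?_, algOver_comp g hg⟩
  rw [EtAcyc.geomPt, ← Scheme.Spec.map_residueFieldIso_inv_eq_fromSpecResidueField]
  rw [spm_comp, spm_comp]
  rfl

/-- **The statement of S17211, from the claim.** -/
theorem of_claim (h : Claim.{u}) {X S : Scheme.{u}} (f : X ⟶ S) [IsNoetherian S]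
    [LocallyOfFiniteType f] [QuasiCompact f] :
    ∃ U : S.Opens, Dense (U : Set S) ∧
      ∀ (G : Type) [Group G] [Finite G], (∀ s : S, IsUnit ((Nat.card G : ℕ) : S.residueField s)) →
      ∀ ⦃X' S' : Scheme.{u}⦄ (b : S' ⟶ S), Set.range b.base ⊆ (U : Set S) →
        ∀ (f' : X' ⟶ S') (b' : X' ⟶ X), IsPullback b' f' f b →
          EtAcyc.OnStrictLocalizations f' (fun _ Y₁ h =>
            ∀ (y : Y₁) (Ω : Type u) [Field Ω] [IsSepClosed Ω] [Algebra (Y₁.residueField y) Ω]
              [Algebra.IsAlgebraic (Y₁.residueField y) Ω]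
              (P : FEt.Cat (pullback h (EtAcyc.geomPt Y₁ y Ω))) (ρ : G →* Aut P),
              SGA1t.IsPrincipal G P ρ → Nonempty (SGA1t.Sec P)) := by
  obtain ⟨U, hU, hU'⟩ := exists_open h f
  refine ⟨U, hU, fun G _ _ hG X' S' b hb f' b' sq => ?_⟩
  rw [Groth.Agent.Etbc.H198.WeBC.onStrictLocalizations_iff]
  intro RY RX _ _ _ _ σ ξ hσ hξ β hβ hc y Ω _ _ _ _ P ρ hP
  let x' : X' := ξ (closedPoint RX)
  have h0 : f (b' x') ∈ U := by
    have h1 : f (b' x') = b (f' x') := by
      have h2 : (b' ≫ f) x' = (f' ≫ b) x' := by rw [sq.w]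
      exact (comp_pt _ _ _ rfl).symm.trans (h2.trans (comp_pt _ _ _ rfl))
    rw [h1]
    exact hb ⟨f' x', rfl⟩
  have h1 : AsphAt (Nat.card G) f' x' := asphAt_of_isPullback sq (hU' _ h0 _)
  have hwe : WeaklyEtale σ := weaklyEtale_of_isStrictLoc hσ
  let τ : Spec (CommRingCat.of RX) ⟶ pullback f' σ := pullback.lift ξ (spm β) hc.symm
  have hτ1 : τ ≫ pullback.fst f' σ = ξ := pullback.lift_fst _ _ _
  have hτ2 : τ ≫ pullback.snd f' σ = spm β := pullback.lift_snd _ _ _
  have hτ : IsStrictLoc τ := IsStrictLoc.of_comp (pullback.fst f' σ) (by rw [hτ1]; exact hξ)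
  have hn : IsUnit ((Nat.card G : ℕ) : RY) := by
    rw [← IsLocalRing.residue_ne_zero_iff_isUnit, map_natCast]
    obtain ⟨j, -⟩ := exists_residueField_hom (resPt RY ≫ σ ≫ b) _ rfl
    have h2 := (hG _).map j
    rw [map_natCast] at h2
    exact h2.ne_zero
  obtain ⟨x, hx, hx'⟩ := exists_geomPt RY y Ω
  have key : NC (Nat.card G) (pullback (spm β) (EtAcyc.geomPt (Spec (CommRingCat.of RY)) y Ω)) := by
    refine nc_of_asphAt h1 hσ.henselian hσ.sepClosed hn (IsPullback.of_hasPullback f' σ) hτ ?_ β hβ hτ2 x hx' ?_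
      (a := pullback.fst _ _) (b := pullback.snd _ _)
    · rw [hτ1]
    · rw [hx]
      exact IsPullback.of_hasPullback _ _
  exact key G dvd_rfl P ρ hP

end K286.Fin
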