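import Groth.Agent.EtAcyc.K286.FinStab
import Groth.Agent.EtAcyc.K548.Radicial

/-!
# Local asphericity does not see nilpotents of the base

`asphAt_of_surjective_closedImmersion`: if `f₁` is the base change of `f : X ⟶ S` along a surjective closed
immersion `π : S₁ ⟶ S`, then `AsphAt n f₁ x₁` implies `AsphAt n f (a x₁)`.
-/

set_option autoImplicit false
universe u

open CategoryTheory CategoryTheory.Limits AlgebraicGeometry IsLocalRing
open Groth.Agent.Etrest.StrictLoc Groth.Agent.Sga1.UlaSL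

namespace K286.FinNil

open K168.AsphDef K286.FinStab

/-- A ring homomorphism to a field factors through a surjection which is surjective on spectra. -/
theorem exists_factor {A A' Ω : Type u} [CommRing A] [CommRing A'] [Field Ω] (α : A →+* A')
    (hα : Function.Surjective α) (hs : Function.Surjective (PrimeSpectrum.comap α)) (ξ : A →+* Ω) :
    ∃ ξ' : A' →+* Ω, ξ'.comp α = ξ := by
  have hker : RingHom.ker α ≤ RingHom.ker ξ := by
    intro a ha
    have hp : (RingHom.ker ξ).IsPrime := RingHom.ker_isPrime ξ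
    obtain ⟨p', hp'⟩ := hs ⟨RingHom.ker ξ, hp⟩
    have h1 : RingHom.ker ξ = p'.asIdeal.comap α := (congrArg PrimeSpectrum.asIdeal hp').symm
    rw [h1, Ideal.mem_comap, (RingHom.mem_ker).1 ha]
    exact p'.asIdeal.zero_mem
  refine ⟨RingHom.liftOfSurjective α hα ⟨ξ, hker⟩, ?_⟩
  exact RingHom.liftOfRightInverse_comp α _ _ ⟨ξ, hker⟩

theorem algOver_of_comp {A A' Ω : Type u} [CommRing A] [CommRing A'] [Field Ω] {α : A →+* A'} {ξ' : A' →+* Ω}
    {ξ : A →+* Ω} (h : ξ'.comp α = ξ) (hξ : AlgOver ξ) : AlgOver ξ' := by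
  intro y
  obtain ⟨p, h1, h2⟩ := hξ y
  refine ⟨p.map α, ?_, ?_⟩
  · rw [Polynomial.map_map, h]
    exact h1
  · rw [Polynomial.eval₂_map, h]
    exact h2

theorem surjective_of_isClosedImmersion {A B : Type u} [CommRing A] [CommRing B] (φ : A →+* B)
    [IsClosedImmersion (spm φ)] : Function.Surjective φ := by
  have h := (IsClosedImmersion.isAffine_surjective_of_isAffine (spm φ)).2
  have h2 : Function.Surjective ((Scheme.ΓSpecIso (CommRingCat.of A)).inv ≫
      Scheme.Hom.appTop (spm φ)).hom :=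
    h.comp (ConcreteCategory.bijective_of_isIso (Scheme.ΓSpecIso (CommRingCat.of A)).inv).2
  rw [← Scheme.ΓSpecIso_inv_naturality] at h2
  intro y
  obtain ⟨x, hx⟩ := h2 ((Scheme.ΓSpecIso (CommRingCat.of B)).inv.hom y)
  exact ⟨x, (ConcreteCategory.bijective_of_isIso (Scheme.ΓSpecIso (CommRingCat.of B)).inv).1 hx⟩

/-- **Invariance under surjective closed immersions of the base.** -/
theorem asphAt_of_isClosedImmersion {n : ℕ} {X S X₁ S₁ : Scheme.{u}} {f : X ⟶ S} {f₁ : X₁ ⟶ S₁} {a : X₁ ⟶ X}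
    {π : S₁ ⟶ S} [IsClosedImmersion π] [Surjective π] (sq : IsPullback a f₁ f π) {x₁ : X₁}
    (h : AsphAt n f₁ x₁) : AsphAt n f (a x₁) := by
  intro A B _ _ _ _ hA hA' hn t σ hσ hx β hβ hc Ω _ _ ξ hξ
  have hid : IsStrictLoc (𝟙 (Spec (CommRingCat.of A))) := isStrictLoc_id A
  have hcl : IsClosedImmersion (pullback.snd π t) := inferInstance
  have hsu : Surjective (pullback.snd π t) := inferInstance
  obtain ⟨A', _, _, τ, α, hτ, hα, sqα⟩ := K548.Radicial.exists_strictLoc (pullback.snd π t) hid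
  have sqA : IsPullback (τ ≫ pullback.fst π t) (spm α) π t := by
    have := sqα.paste_horiz (IsPullback.of_hasPullback π t)
    rwa [Category.id_comp] at this
  let t₁ : Spec (CommRingCat.of A') ⟶ S₁ := τ ≫ pullback.fst π t
  have hclα : IsClosedImmersion (spm α) := MorphismProperty.of_isPullback sqA inferInstance
  have hsuα : Surjective (spm α) := MorphismProperty.of_isPullback sqA inferInstance
  -- the base change of `P`
  have sqP := (IsPullback.of_hasPullback f₁ t₁).paste_horiz sq
  let m : pullback f₁ t₁ ⟶ pullback f t := pullback.lift (pullback.fst f₁ t₁ ≫ a) (pullback.snd f₁ t₁ ≫ spm α) (by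
    rw [Category.assoc, sq.w, pullback.condition_assoc, Category.assoc]
    exact congrArg (pullback.snd f₁ t₁ ≫ ·) sqA.w)
  have hm1 : m ≫ pullback.fst f t = pullback.fst f₁ t₁ ≫ a := pullback.lift_fst _ _ _
  have hm2 : m ≫ pullback.snd f t = pullback.snd f₁ t₁ ≫ spm α := pullback.lift_snd _ _ _
  have sqm : IsPullback m (pullback.snd f₁ t₁) (pullback.snd f t) (spm α) := by
    refine IsPullback.of_right ?_ hm2 (IsPullback.of_hasPullback f t)
    rw [hm1, ← sqA.w]
    exact sqP
  have hclm : IsClosedImmersion m := MorphismProperty.of_isPullback sqm.flip inferInstance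
  have hsum : Surjective m := MorphismProperty.of_isPullback sqm.flip inferInstance
  obtain ⟨B', _, _, σ₁, α', hσ₁, hα', sqσ⟩ := K548.Radicial.exists_strictLoc m hσ
  -- the map of rings
  obtain ⟨β', hβ'⟩ : ∃ β' : A' →+* B', spm β' = σ₁ ≫ pullback.snd f₁ t₁ :=
    ⟨(Spec.preimage (σ₁ ≫ pullback.snd f₁ t₁)).hom, Spec.map_preimage _⟩
  have sqB : IsPullback (spm α') (spm β') (spm β) (spm α) := by
    rw [hβ', ← hc]
    exact sqσ.flip.paste_vert sqm
  have hcomp : β'.comp α = α'.comp β := by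
    rw [← spm_inj, spm_comp, spm_comp, sqB.w]
  have hinj : Function.Injective (spm α) := (Scheme.Hom.isClosedEmbedding (spm α)).injective
  have hβ'l : IsLocalHom β' := K548.Radicial.isLocalHom_of_comp_eq α α' β β' hcomp hinj
  obtain ⟨ξ', hξ'⟩ := exists_factor α (surjective_of_isClosedImmersion α)
    (fun x => hsuα.surj x) ξ
  have hn' : IsUnit (n : A') := by
    have := hn.map α
    rwa [map_natCast] at this
  have hx₁ : a ((σ₁ ≫ pullback.fst f₁ t₁) (closedPoint B')) = a x₁ := by
    rw [← hx]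
    have h1 : (spm α' ≫ σ ≫ pullback.fst f t) (closedPoint B') = (σ ≫ pullback.fst f t) (closedPoint B) :=
      comp_pt _ _ _ (closedPoint_map α')
    have h2 : spm α' ≫ σ ≫ pullback.fst f t = (σ₁ ≫ pullback.fst f₁ t₁) ≫ a := by
      rw [← Category.assoc, ← sqσ.w, Category.assoc, hm1, Category.assoc]
    rw [← h1, h2]
    exact (comp_pt _ _ _ rfl).symm
  have hcla : IsClosedImmersion a := MorphismProperty.of_isPullback sq.flip inferInstance
  have sqN : IsPullback (pullback.fst (spm β) (spm ξ)) (pullback.snd (spm β) (spm ξ)) (spm β) (spm ξ' ≫ spm α) := by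
    rw [← spm_comp, hξ']
    exact IsPullback.of_hasPullback _ _
  let ν : pullback (spm β) (spm ξ) ⟶ Spec (CommRingCat.of B') :=
    sqB.lift (pullback.fst (spm β) (spm ξ)) (pullback.snd (spm β) (spm ξ) ≫ spm ξ') (by
      rw [sqN.w, Category.assoc])
  have hν1 : ν ≫ spm α' = pullback.fst (spm β) (spm ξ) := sqB.lift_fst _ _ _
  have hν2 : ν ≫ spm β' = pullback.snd (spm β) (spm ξ) ≫ spm ξ' := sqB.lift_snd _ _ _
  have sqN' : IsPullback ν (pullback.snd (spm β) (spm ξ)) (spm β') (spm ξ') :=
    IsPullback.of_right (by rw [hν1]; exact sqN) hν2 sqB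
  exact nc_of_asphAt h hτ.henselian hτ.sepClosed hn' (IsPullback.of_hasPullback f₁ t₁) hσ₁
    ((Scheme.Hom.isClosedEmbedding a).injective hx₁) β' hβ'l hβ'.symm ξ' (algOver_of_comp hξ' hξ) sqN'

end K286.FinNil
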