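import Groth.Agent.EtAcyc.K286.FinAff
import Mathlib.AlgebraicGeometry.Noetherian

/-!
# Generic universal local asphericity over Noetherian schemes

`exists_open`: for `f : X ⟶ S` of finite type with `S` Noetherian there is a dense open `U` of `S` over which `f` is
universally locally aspherical.
-/

set_option autoImplicit false
universe u

open CategoryTheory CategoryTheory.Limits AlgebraicGeometry IsLocalRing TensorProduct
open Groth.Agent.Etrest.StrictLoc Groth.Agent.Sga1.UlaSL

namespace K286.Fin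

open K168.AsphDef K168.ClaimDef K286.FinStab K286.FinNil K286.FinAff

theorem not_isNilpotent_iff {R : Type u} [CommRing R] (r : R) : ¬ IsNilpotent r ↔ r ∉ nilradical R := by
  rw [mem_nilradical]

/-- Affine source, affine target with irreducible spectrum. -/
theorem exists_affine_ring (h : Claim.{u}) {R : Type u} [CommRing R] [IsNoetherianRing R]
    (hR : (nilradical R).IsPrime) {C : Type u} [CommRing C] (φ : R →+* C) (hφ : φ.FiniteType) :
    ∃ r : R, r ∉ nilradical R ∧ ∀ x : Spec (CommRingCat.of C), r ∉ (spm φ x).asIdeal →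
      ∀ n : ℕ, AsphAt n (spm φ) x := by
  let _ : Algebra R C := φ.toAlgebra
  have hft : Algebra.FiniteType R C := hφ
  let D := R ⧸ nilradical R
  have hD : IsDomain D := Ideal.Quotient.isDomain _
  have hND : IsNoetherianRing D := inferInstance
  have hfD : Algebra.FiniteType D (D ⊗[R] C) := inferInstance
  have hfp : Algebra.FinitePresentation D (D ⊗[R] C) := Algebra.FinitePresentation.of_finiteType.1 hfD
  obtain ⟨d, hd, h'⟩ := genAsph_of_claim h D (D ⊗[R] C)
  obtain ⟨r, rfl⟩ := Ideal.Quotient.mk_surjective d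
  refine ⟨r, fun h0 => hd (Ideal.Quotient.eq_zero_iff_mem.2 h0), fun x hx n => ?_⟩
  have sq := isPullback_spm_tensor R D C
  have hcl : IsClosedImmersion (spm (algebraMap R D)) :=
    IsClosedImmersion.spec_of_surjective _ Ideal.Quotient.mk_surjective
  have hsu : Surjective (spm (algebraMap R D)) :=
    ⟨(PrimeSpectrum.comap_quotientMk_bijective_of_le_nilradical (I := nilradical R) le_rfl).2⟩
  have hsa : Surjective (spm (Algebra.TensorProduct.includeRight : C →ₐ[R] D ⊗[R] C).toRingHom) :=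
    MorphismProperty.of_isPullback sq.flip inferInstance
  obtain ⟨x₁, rfl⟩ := hsa.surj x
  refine asphAt_of_isClosedImmersion sq (h' x₁ (fun h1 => hx ?_) n)
  change φ r ∈ (spm (Algebra.TensorProduct.includeRight : C →ₐ[R] D ⊗[R] C).toRingHom x₁).asIdeal
  rw [mem_spm]
  have h2 : (Algebra.TensorProduct.includeRight : C →ₐ[R] D ⊗[R] C).toRingHom (φ r) =
      algebraMap D (D ⊗[R] C) (algebraMap R D r) := by
    rw [← IsScalarTower.algebraMap_apply]
    exact (Algebra.TensorProduct.includeRight : C →ₐ[R] D ⊗[R] C).commutes r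
  rw [h2]
  exact h1

/-- Affine source, affine target with irreducible spectrum. -/
theorem exists_affine_aux (h : Claim.{u}) {R : Type u} [CommRing R] [IsNoetherianRing R]
    (hR : (nilradical R).IsPrime) {X : Scheme.{u}} [IsAffine X] (g : X ⟶ Spec (CommRingCat.of R))
    [LocallyOfFiniteType g] :
    ∃ r : R, r ∉ nilradical R ∧ ∀ x : X, r ∉ (g x).asIdeal → ∀ n : ℕ, AsphAt n g x := by
  obtain ⟨φ, hφ⟩ : ∃ φ : R →+* Γ(X, ⊤), spm φ = X.isoSpec.inv ≫ g :=
    ⟨(Spec.preimage (X.isoSpec.inv ≫ g)).hom, Spec.map_preimage _⟩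
  have hft : LocallyOfFiniteType (spm φ) := by rw [hφ]; infer_instance
  obtain ⟨r, hr, h'⟩ := exists_affine_ring h hR φ ((HasRingHomProperty.Spec_iff (P := @LocallyOfFiniteType)).1 hft)
  have hg : g = X.isoSpec.hom ≫ spm φ := by rw [hφ, Iso.hom_inv_id_assoc]
  refine ⟨r, hr, fun x hx n => ?_⟩
  have h1 : AsphAt n (X.isoSpec.hom ≫ spm φ) x := by
    refine asphAt_comp _ _ (h' _ ?_ n)
    have h2 : spm φ (X.isoSpec.hom x) = g x := by
      rw [hg]
      exact (comp_pt _ _ _ rfl).symm
    rw [h2]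
    exact hx
  rw [hg]
  exact h1

/-- Affine target with irreducible spectrum. -/
theorem exists_affine (h : Claim.{u}) {R : Type u} [CommRing R] [IsNoetherianRing R]
    (hR : (nilradical R).IsPrime) {X : Scheme.{u}} (g : X ⟶ Spec (CommRingCat.of R))
    [LocallyOfFiniteType g] [QuasiCompact g] :
    ∃ r : R, r ∉ nilradical R ∧ ∀ x : X, r ∉ (g x).asIdeal → ∀ n : ℕ, AsphAt n g x := by
  have hX : CompactSpace X := QuasiCompact.compactSpace_of_compactSpace g
  let 𝒰 := X.affineCover.finiteSubcover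
  have key (i : 𝒰.I₀) := exists_affine_aux h hR (𝒰.f i ≫ g)
  choose r hr1 hr2 using key
  refine ⟨∏ i, r i, fun h0 => ?_, fun x hx n => ?_⟩
  · obtain ⟨i, -, hi⟩ := (hR.prod_mem_iff).1 h0
    exact hr1 i hi
  · obtain ⟨i, y, rfl⟩ := 𝒰.exists_eq x
    refine asphAt_of_comp (𝒰.f i) g (hr2 i y (fun h1 => hx ?_) n)
    have h2 : (𝒰.f i ≫ g) y = g (𝒰.f i y) := comp_pt _ _ _ rfl
    rw [h2] at h1
    exact Ideal.mem_of_dvd _ (Finset.dvd_prod_of_mem r (Finset.mem_univ i)) h1

theorem exists_irreducible_open {S : Scheme.{u}} [IsNoetherian S] (W : S.Opens)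
    (hW : (W : Set S).Nonempty) : ∃ V : S.Opens, V ≤ W ∧ IrreducibleSpace V := by
  have hN : TopologicalSpace.NoetherianSpace S := inferInstance
  have hNW : TopologicalSpace.NoetherianSpace (W : Set S) :=
    Topology.IsInducing.subtypeVal.noetherianSpace
  obtain ⟨x, hx⟩ := hW
  let Z : Set (W : Set S) := irreducibleComponent ⟨x, hx⟩
  obtain ⟨o, ho, hone, hoZ⟩ :=
    TopologicalSpace.NoetherianSpace.exists_isOpen_nonempty_subset_irreducibleComponent Z
      (irreducibleComponent_mem_irreducibleComponents _)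
  have hoi : IsIrreducible o :=
    ⟨hone, isIrreducible_irreducibleComponent.isPreirreducible.open_subset ho hoZ⟩
  let V : S.Opens := ⟨Subtype.val '' o, W.isOpen.isOpenMap_subtype_val _ ho⟩
  refine ⟨V, ?_, ?_⟩
  · rintro _ ⟨y, -, rfl⟩
    exact y.2
  · exact Subtype.irreducibleSpace (hoi.image _ continuous_subtype_val.continuousOn)

/-- Every nonempty open contains an affine open with irreducible spectrum. -/
theorem exists_affine_open {S : Scheme.{u}} [IsNoetherian S] (W : S.Opens) (hW : (W : Set S).Nonempty) :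
    ∃ (R : Type u) (_ : CommRing R) (i : Spec (CommRingCat.of R) ⟶ S), IsNoetherianRing R ∧ IsOpenImmersion i ∧
      (nilradical R).IsPrime ∧ Set.range i ⊆ (W : Set S) := by
  obtain ⟨V, hVW, hV⟩ := exists_irreducible_open W hW
  obtain ⟨⟨s, hs⟩⟩ := hV.toNonempty
  obtain ⟨U, hU, hsU, hUV⟩ := exists_isAffineOpen_mem_and_subset (U := V) hs
  have hirr : IrreducibleSpace ↥V.toScheme := hV
  refine ⟨Γ(S, U), inferInstance, hU.fromSpec, IsLocallyNoetherian.component_noetherian ⟨U, hU⟩, inferInstance, ?_, ?_⟩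
  · rw [← PrimeSpectrum.irreducibleSpace_iff_isPrime_nilradical]
    have h0 : Set.range hU.fromSpec ⊆ Set.range V.ι := by
      rw [hU.range_fromSpec, Scheme.Opens.range_ι]
      exact hUV
    have h0' : IsOpenImmersion (IsOpenImmersion.lift V.ι hU.fromSpec h0 ≫ V.ι) := by
      rw [IsOpenImmersion.lift_fac]
      infer_instance
    have h1 : IsOpenImmersion (IsOpenImmersion.lift V.ι hU.fromSpec h0) := IsOpenImmersion.of_comp _ V.ι
    have h2 : Nonempty (Spec Γ(S, U)) := by
      have h3 : s ∈ Set.range hU.fromSpec := by rw [hU.range_fromSpec]; exact hsU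
      obtain ⟨y, -⟩ := h3
      exact ⟨y⟩
    exact (IsOpenImmersion.lift V.ι hU.fromSpec h0).isOpenEmbedding.irreducibleSpace
  · rw [hU.range_fromSpec]
    exact hUV.trans hVW

/-- **Generic universal local asphericity.** -/
theorem exists_open (h : Claim.{u}) {X S : Scheme.{u}} (f : X ⟶ S) [IsNoetherian S] [LocallyOfFiniteType f]
    [QuasiCompact f] :
    ∃ U : S.Opens, Dense (U : Set S) ∧ ∀ x : X, f x ∈ U → ∀ n : ℕ, AsphAt n f x := by
  let good : Set S.Opens := {V | ∀ x : X, f x ∈ V → ∀ n : ℕ, AsphAt n f x}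
  refine ⟨sSup good, ?_, ?_⟩
  · rw [dense_iff_inter_open]
    intro W hWo hWne
    obtain ⟨R, _, i, hN, hi, hR, hiW⟩ := exists_affine_open ⟨W, hWo⟩ hWne
    obtain ⟨r, hr, hr'⟩ := exists_affine h hR (pullback.snd f i)
    have h1 : PrimeSpectrum.basicOpen r ≠ ⊥ := by
      rw [Ne, PrimeSpectrum.basicOpen_eq_bot_iff, ← mem_nilradical]
      exact hr
    obtain ⟨p, hp⟩ : ∃ p : Spec (CommRingCat.of R), p ∈ PrimeSpectrum.basicOpen r := by
      by_contra hcon
      push Not at hcon
      exact h1 (eq_bot_iff.2 fun p hp => hcon p hp)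
    let V : S.Opens := i ''ᵁ (PrimeSpectrum.basicOpen r)
    have hV : V ∈ good := by
      intro x hx n
      obtain ⟨q, hq, hqx⟩ := hx
      obtain ⟨y, hy1, hy2⟩ := Scheme.Pullback.exists_preimage_pullback (f := f) (g := i) x q hqx.symm
      have h2 : AsphAt n (pullback.snd f i) y := hr' y (by rw [hy2]; exact hq) n
      rw [← hy1]
      exact (asphAt_iff_of_isPullback (IsPullback.of_hasPullback f i) y).1 h2
    refine ⟨i p, hiW ⟨p, rfl⟩, ?_⟩
    have h3 : V ≤ sSup good := le_sSup hV
    exact h3 ⟨p, hp, rfl⟩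
  · intro x hx n
    obtain ⟨V, hV, hxV⟩ := TopologicalSpace.Opens.mem_sSup.1 hx
    exact hV x hxV n

end K286.Fin
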